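import Mathlib.FieldTheory.IsAlgClosed.Classification
import Mathlib.FieldTheory.IsAlgClosed.AlgebraicClosure
import Mathlib.RingTheory.MvPolynomial.Basic

/-!
# Large algebraically closed fields
-/

set_option autoImplicit false

universe u

open Cardinal

namespace Groth.Agent.Lib.BigField

/-- An algebraically closed extension of arbitrarily large cardinality. -/
theorem exists_big (K : Type u) [Field K] :
    ∃ (Ω : Type u) (_ : Field Ω) (_ : IsAlgClosed Ω) (_ : Algebra K Ω), #K < #Ω ∧ ℵ₀ < #Ω := by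
  let I : Type u := Set (K ⊕ ULift.{u} ℕ)
  let Ω := AlgebraicClosure (FractionRing (MvPolynomial I K))
  letI : Algebra K Ω :=
    ((algebraMap (FractionRing (MvPolynomial I K)) Ω).comp (algebraMap K (FractionRing (MvPolynomial I K)))).toAlgebra
  have h1 : #I ≤ #Ω := by
    refine Cardinal.mk_le_of_injective (f := fun i => algebraMap (FractionRing (MvPolynomial I K)) Ω
      (algebraMap (MvPolynomial I K) (FractionRing (MvPolynomial I K)) (MvPolynomial.X i))) ?_
    exact (algebraMap (FractionRing (MvPolynomial I K)) Ω).injective.comp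
      ((IsFractionRing.injective (MvPolynomial I K) (FractionRing (MvPolynomial I K))).comp MvPolynomial.X_injective)
  have h2 : #(K ⊕ ULift.{u} ℕ) < #I := by
    rw [Cardinal.mk_set]; exact Cardinal.cantor _
  refine ⟨Ω, inferInstance, inferInstance, inferInstance, lt_of_le_of_lt ?_ (h2.trans_le h1),
    lt_of_le_of_lt ?_ (h2.trans_le h1)⟩
  · exact Cardinal.mk_le_of_injective Sum.inl_injective
  · exact Cardinal.aleph0_le_mk _

theorem exists_basis (k L : Type u) [Field k] [Field L] [Algebra k L] [IsAlgClosed L] (hk : #k < #L) (hL : ℵ₀ < #L) :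
    ∃ (ι : Type u) (v : ι → L), IsTranscendenceBasis k v ∧ #ι = #L := by
  obtain ⟨ι, v, hv⟩ := exists_isTranscendenceBasis' k L
  refine ⟨ι, v, hv, le_antisymm (Cardinal.mk_le_of_injective hv.1.injective) ?_⟩
  by_contra hlt
  rw [not_le] at hlt
  exact (IsAlgClosed.cardinal_le_max_transcendence_basis' v hv).not_gt (max_lt (max_lt hk hlt) hL)

theorem exists_equiv' (k L M : Type u) [Field k] [Field L] [Field M] [Algebra k L] [Algebra k M]
    [IsAlgClosed L] [IsAlgClosed M] (hLM : #L = #M) (hk : #k < #L) (hL : ℵ₀ < #L) :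
    ∃ e : L ≃+* M, ∀ x, e (algebraMap k L x) = algebraMap k M x := by
  obtain ⟨ι, v, hv, hι⟩ := exists_basis k L hk hL
  obtain ⟨κ, w, hw, hκ⟩ := exists_basis k M (hLM ▸ hk) (hLM ▸ hL)
  obtain ⟨e⟩ := Cardinal.eq.1 (hι.trans (hLM.trans hκ.symm))
  have := IsAlgClosed.isAlgClosure_of_transcendence_basis v hv
  have := IsAlgClosed.isAlgClosure_of_transcendence_basis w hw
  let e0 : Algebra.adjoin k (Set.range v) ≃ₐ[k] Algebra.adjoin k (Set.range w) :=
    hv.1.aevalEquiv.symm.trans ((MvPolynomial.renameEquiv k e).trans hw.1.aevalEquiv)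
  refine ⟨IsAlgClosure.equivOfEquiv L M e0.toRingEquiv, fun x => ?_⟩
  refine (IsAlgClosure.equivOfEquiv_algebraMap L M e0.toRingEquiv (algebraMap k _ x)).trans ?_
  exact congrArg Subtype.val (e0.commutes x)

/-- Two embeddings of a field into a much larger algebraically closed field are conjugate. -/
theorem exists_equiv (k Ω : Type u) [Field k] [Field Ω] [IsAlgClosed Ω] (hk : #k < #Ω) (hΩ : ℵ₀ < #Ω)
    (a b : k →+* Ω) : ∃ e : Ω ≃+* Ω, ∀ x, e (a x) = b x :=
  @exists_equiv' k Ω Ω _ _ _ a.toAlgebra b.toAlgebra _ _ rfl hk hΩ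

end Groth.Agent.Lib.BigField
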